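import Cfsg.Agent.Lib.ChDeg.Deg

/-! Irreducible characters of a finite direct product. -/

set_option autoImplicit false

open scoped Classical ComplexConjugate

namespace CfsgLib.ChMisc

open Cfsg CfsgLib.Char CfsgLib.ChDeg

variable {ι : Type*} [Fintype ι] {D : ι → Type*} [∀ i, Group (D i)]

/-- the outer product of a family of functions -/
def piFun (φ : ∀ i, D i → ℂ) : (∀ i, D i) → ℂ := fun f => ∏ i, φ i (f i)

theorem isCharacter_piFun {φ : ∀ i, D i → ℂ} (h : ∀ i, IsCharacter (D i) (φ i)) :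
    IsCharacter (∀ i, D i) (piFun φ) := by
  convert isCharacter_prod Finset.univ fun i _ => isCharacter_comp (Pi.evalMonoidHom D i) (h i) using 1
  ext f
  simp [piFun]

theorem deg_piFun {φ : ∀ i, D i → ℂ} (h : ∀ i, IsCharacter (D i) (φ i)) :
    charDegree (piFun φ) = ∏ i, charDegree (φ i) :=
  deg_eq_of_eq (by simp [piFun, deg_cast (h _)])

variable [∀ i, Fintype (D i)]

theorem classInner_piFun (φ ψ : ∀ i, D i → ℂ) :
    classInner (piFun φ) (piFun ψ) = ∏ i, classInner (φ i) (ψ i) := by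
  simp only [classInner_def, piFun, map_prod, ← Finset.prod_mul_distrib, Nat.card_pi, Nat.cast_prod]
  rw [Finset.prod_mul_distrib, Finset.prod_inv_distrib, Finset.prod_univ_sum, Fintype.piFinset_univ]

theorem isIrr_piFun {φ : ∀ i, D i → ℂ} (h : ∀ i, IsIrrCharacter (D i) (φ i)) :
    IsIrrCharacter (∀ i, D i) (piFun φ) :=
  isIrr_of_inner_self_eq_one (isCharacter_piFun fun i => isCharacter_of_isIrr (h i)) (by
    simp [classInner_piFun, classInner_irr_self (h _)])

theorem piFun_inj {φ ψ : ∀ i, D i → ℂ} (h : ∀ i, IsIrrCharacter (D i) (φ i))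
    (h' : ∀ i, IsIrrCharacter (D i) (ψ i)) (e : piFun φ = piFun ψ) (i : ι) : φ i = ψ i := by
  have := classInner_irr_self (isIrr_piFun h')
  nth_rewrite 1 [← e] at this
  rw [classInner_piFun] at this
  exact irr_eq_of_classInner_ne_zero (h i) (h' i)
    (Finset.prod_ne_zero_iff.1 (this ▸ one_ne_zero) i (Finset.mem_univ _))

theorem exists_eq_piFun {θ : (∀ i, D i) → ℂ} (hθ : IsIrrCharacter _ θ) :
    ∃ φ : ∀ i, IrrCharacter (D i), θ = piFun fun i => (φ i : D i → ℂ) := by
  have h1 : regChar (∀ i, D i) = ∑ φ : ∀ i, IrrCharacter (D i),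
      (∏ i, (φ i : D i → ℂ) 1) • piFun fun i => (φ i : D i → ℂ) := funext fun f => by
    have : regChar (∀ i, D i) f = ∏ i, regChar (D i) (f i) := by
      by_cases hf : f = 1
      · simp [hf, regChar_one, Nat.card_pi, -Nat.card_eq_fintype_card]
      · obtain ⟨i, hi⟩ := Function.ne_iff.1 hf
        rw [regChar_of_ne_one hf, Finset.prod_eq_zero (Finset.mem_univ i) (regChar_of_ne_one (g := f i) hi)]
    simp only [this, regChar_eq_sum, Finset.sum_apply, Pi.smul_apply, smul_eq_mul, piFun,
      ← Finset.prod_mul_distrib]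
    rw [Finset.prod_univ_sum, Fintype.piFinset_univ]
  have h2 : classInner (regChar _) θ ≠ 0 := by
    rw [classInner_regChar_left, conj_char_one (isCharacter_of_isIrr hθ)]
    exact irr_one_ne_zero hθ
  rw [h1, classInner_sum_left] at h2
  obtain ⟨φ, -, h3⟩ := Finset.exists_ne_zero_of_sum_ne_zero h2
  rw [classInner_smul_left] at h3
  exact ⟨φ, (irr_eq_of_classInner_ne_zero (isIrr_piFun fun i => (φ i).2) hθ (right_ne_zero_of_mul h3)).symm⟩

end CfsgLib.ChMisc
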